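import Groth.Agent.Resolve.K84.Iface
import Groth.Agent.Vanish.K660.FF
import Groth.Agent.Coh.K415.ZMTNormal

/-!
# Birational morphisms (`K84.Iface.IsBir`): composition, base change, function fields
-/

set_option autoImplicit false
universe u

open CategoryTheory CategoryTheory.Limits AlgebraicGeometry TopologicalSpace

namespace K588.Bir

open K84.Iface K660

theorem isPullback_restrict_le {X Y : Scheme.{u}} (f : X ⟶ Y) {O O' : Y.Opens} (h : O' ≤ O) :
    IsPullback (X.homOfLE (show f ⁻¹ᵁ O' ≤ f ⁻¹ᵁ O from fun _ hx => h hx)) (f ∣_ O') (f ∣_ O)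
      (Y.homOfLE h) := by
  refine IsPullback.of_right (h₁₂ := (f ⁻¹ᵁ O).ι) (h₂₂ := O.ι) (v₁₃ := f) ?_ ?_
    (isPullback_morphismRestrict f O).flip
  · rw [Scheme.homOfLE_ι, Scheme.homOfLE_ι]
    exact (isPullback_morphismRestrict f O').flip
  · rw [← cancel_mono O.ι, Category.assoc, Category.assoc, morphismRestrict_ι,
      Scheme.homOfLE_ι, morphismRestrict_ι, ← Category.assoc, Scheme.homOfLE_ι]

theorem isIso_restrict_le {X Y : Scheme.{u}} (f : X ⟶ Y) {O O' : Y.Opens} (h : O' ≤ O)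
    (hO : IsIso (f ∣_ O)) : IsIso (f ∣_ O') :=
  (MorphismProperty.isomorphisms Scheme.{u}).of_isPullback (isPullback_restrict_le f h) hO

/-- A restricted isomorphism is a bijection over the open. -/
theorem exists_of_isIso_restrict {X Y : Scheme.{u}} (f : X ⟶ Y) {V : Y.Opens} (h : IsIso (f ∣_ V)) {y : Y}
    (hy : y ∈ V) : ∃ x, f x = y := by
  have : Surjective (f ∣_ V) := inferInstance
  obtain ⟨x, hx⟩ := (f ∣_ V).surjective ⟨y, hy⟩
  refine ⟨x.1, ?_⟩
  have h1 := morphismRestrict_base_coe f V x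
  rw [hx] at h1
  exact h1.symm

theorem inj_of_isIso_restrict {X Y : Scheme.{u}} (f : X ⟶ Y) {V : Y.Opens} (h : IsIso (f ∣_ V)) {x x' : X}
    (hx : f x ∈ V) (hxx : f x = f x') : x = x' := by
  have hinj : Function.Injective (f ∣_ V) :=
    (Scheme.homeoOfIso (asIso (f ∣_ V))).injective
  have hx' : f x' ∈ V := by rw [← hxx]; exact hx
  let z : (f ⁻¹ᵁ V : X.Opens) := ⟨x, hx⟩
  let z' : (f ⁻¹ᵁ V : X.Opens) := ⟨x', hx'⟩
  have h1 : z = z' := by
    apply hinj
    apply Subtype.ext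
    exact (morphismRestrict_base_coe f V z).trans (hxx.trans (morphismRestrict_base_coe f V z').symm)
  exact congrArg Subtype.val h1

theorem isBir_id (X : Scheme.{u}) [Nonempty X] : IsBir (𝟙 X) := ⟨⊤, ⟨Classical.arbitrary X, trivial⟩,
  (MorphismProperty.isomorphisms Scheme.{u}).of_isPullback (isPullback_morphismRestrict (𝟙 X) ⊤).flip
    (inferInstance : IsIso (𝟙 X))⟩

/-- the image of an open of the source contained in the good locus -/
theorem exists_open {X Y : Scheme.{u}} (f : X ⟶ Y) {V : Y.Opens} (h : IsIso (f ∣_ V)) (W : X.Opens)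
    (hW : W ≤ f ⁻¹ᵁ V) : ∃ O : Y.Opens, O ≤ V ∧ f ⁻¹ᵁ O = W := by
  let e := Scheme.homeoOfIso (asIso (f ∣_ V))
  have hop : IsOpen (f '' (W : Set X)) := by
    have h1 : f '' (W : Set X) = Subtype.val '' (e '' (Subtype.val ⁻¹' (W : Set X))) := by
      ext y
      constructor
      · rintro ⟨x, hx, rfl⟩
        refine ⟨e ⟨x, hW hx⟩, ⟨⟨x, hW hx⟩, hx, rfl⟩, ?_⟩
        exact morphismRestrict_base_coe f V ⟨x, hW hx⟩
      · rintro ⟨_, ⟨x, hx, rfl⟩, rfl⟩
        exact ⟨x.1, hx, (morphismRestrict_base_coe f V x).symm⟩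
    rw [h1]
    exact V.2.isOpenMap_subtype_val _ (e.isOpenMap _ (W.2.preimage continuous_subtype_val))
  refine ⟨⟨_, hop⟩, ?_, ?_⟩
  · rintro _ ⟨x, hx, rfl⟩
    exact hW hx
  · ext x
    constructor
    · rintro ⟨x', hx', h'⟩
      have h2 : x' = x := inj_of_isIso_restrict f h (hW hx') h'
      rw [← h2]
      exact hx'
    · intro hx
      exact ⟨x, hx, rfl⟩

theorem isBir_comp {X Y Z : Scheme.{u}} (f : X ⟶ Y) (g : Y ⟶ Z) [IrreducibleSpace Y] (hf : IsBir f)
    (hg : IsBir g) : IsBir (f ≫ g) := by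
  obtain ⟨V, ⟨y, hy⟩, hV⟩ := hf
  obtain ⟨W, ⟨z, hz⟩, hW⟩ := hg
  obtain ⟨y', hy'⟩ := exists_of_isIso_restrict g hW hz
  have hne : ((V : Set Y) ∩ (g ⁻¹ᵁ W : Y.Opens)).Nonempty :=
    nonempty_preirreducible_inter V.2 (g ⁻¹ᵁ W).2 ⟨y, hy⟩ ⟨y', by change g y' ∈ W; rw [hy']; exact hz⟩
  obtain ⟨w, hw1, hw2⟩ := hne
  obtain ⟨O, hO, hO'⟩ := exists_open g hW (V ⊓ g ⁻¹ᵁ W) inf_le_right
  refine ⟨O, ⟨g w, ?_⟩, ?_⟩
  · change w ∈ g ⁻¹ᵁ O
    rw [hO']; exact ⟨hw1, hw2⟩
  · rw [morphismRestrict_comp]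
    have h1 : IsIso (g ∣_ O) := isIso_restrict_le g hO hW
    have h2 : IsIso (f ∣_ (g ⁻¹ᵁ O)) := isIso_restrict_le f (hO'.le.trans inf_le_left) hV
    exact IsIso.comp_isIso' h2 h1

/-- base change -/
theorem isIso_restrict_of_isPullback {X' X Y' Y : Scheme.{u}} {a : X' ⟶ X} {f' : X' ⟶ Y'} {f : X ⟶ Y}
    {b : Y' ⟶ Y} (h : IsPullback a f' f b) {V : Y.Opens} (hV : IsIso (f ∣_ V)) :
    IsIso (f' ∣_ (b ⁻¹ᵁ V)) := by
  have h1 := (isPullback_morphismRestrict f' (b ⁻¹ᵁ V)).flip
  -- (f'⁻¹ b⁻¹ V) → X' → X over b⁻¹V → Y' → Y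
  have h2 := h1.paste_horiz h
  have h3 := (isPullback_morphismRestrict f V).flip
  have h4 : (b ⁻¹ᵁ V).ι ≫ b = (b ∣_ V) ≫ V.ι := (morphismRestrict_ι b V).symm
  rw [h4] at h2
  have h5 := IsPullback.of_right' h2 h3
  exact (MorphismProperty.isomorphisms Scheme.{u}).of_isPullback h5 hV

theorem isBir_of_isPullback {X' X Y' Y : Scheme.{u}} {a : X' ⟶ X} {f' : X' ⟶ Y'} {f : X ⟶ Y}
    {b : Y' ⟶ Y} (h : IsPullback a f' f b) (hf : IsBir f)
    (hb : ∀ V : Y.Opens, (V : Set Y).Nonempty → ((b ⁻¹ᵁ V : Y'.Opens) : Set Y').Nonempty) : IsBir f' := by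
  obtain ⟨V, hne, hV⟩ := hf
  exact ⟨b ⁻¹ᵁ V, hb V hne, isIso_restrict_of_isPullback h hV⟩

section FunField

variable {X Y : Scheme.{u}} [IsIntegral X] [IsIntegral Y] (f : X ⟶ Y)

theorem eq_genericPoint_of_specializes {Z : Scheme.{u}} [IsIntegral Z] {z : Z} (h : z ⤳ genericPoint Z) :
    z = genericPoint Z :=
  (h.antisymm ((genericPoint_spec Z).specializes trivial)).eq

theorem genericPoint_mem {V : Y.Opens} (h : (V : Set Y).Nonempty) : genericPoint Y ∈ V :=
  ((genericPoint_spec Y).mem_open_set_iff V.2).2 (by simpa using h)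

variable {f}

theorem map_genericPoint (h : IsBir f) : f (genericPoint X) = genericPoint Y := by
  obtain ⟨V, hne, hV⟩ := h
  obtain ⟨x, hx⟩ := exists_of_isIso_restrict f hV (genericPoint_mem hne)
  apply eq_genericPoint_of_specializes
  rw [← hx]
  exact ((genericPoint_spec X).specializes trivial).map f.continuous

theorem isIso_stalkSpecializes {Y : Scheme.{u}} {y y' : Y} (h : y = y') :
    IsIso (Y.presheaf.stalkSpecializes (specializes_of_eq h)) := by
  subst h
  rw [TopCat.Presheaf.stalkSpecializes_refl]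
  infer_instance

theorem isIso_stalkMap_of_mem {X Y : Scheme.{u}} (f : X ⟶ Y) {V : Y.Opens} (hV : IsIso (f ∣_ V)) {x : X}
    (hx : f x ∈ V) : IsIso (f.stalkMap x) := by
  let z : ((f ⁻¹ᵁ V : X.Opens) : Scheme.{u}) := ⟨x, hx⟩
  have e := morphismRestrictStalkMap f V z
  have h1 : IsIso ((f ∣_ V).stalkMap z) := inferInstance
  exact ((MorphismProperty.isomorphisms CommRingCat.{u}).arrow_mk_iso_iff e).1 h1

theorem bijective_ff (h : IsBir f) (h' : f (genericPoint X) = genericPoint Y) :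
    Function.Bijective (FF.ff f h') := by
  obtain ⟨V, hne, hV⟩ := h
  have h1 : IsIso (f.stalkMap (genericPoint X)) :=
    isIso_stalkMap_of_mem f hV (by rw [h']; exact genericPoint_mem hne)
  have h2 : IsIso (Y.presheaf.stalkSpecializes (specializes_of_eq h')) := isIso_stalkSpecializes h'
  have h3 : IsIso (Y.presheaf.stalkSpecializes (specializes_of_eq h') ≫ f.stalkMap (genericPoint X)) :=
    inferInstance
  exact ConcreteCategory.bijective_of_isIso
    (Y.presheaf.stalkSpecializes (specializes_of_eq h') ≫ f.stalkMap (genericPoint X))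

theorem bijective_stalkMap_of_ff (h' : f (genericPoint X) = genericPoint Y)
    (h : Function.Bijective (FF.ff f h')) : Function.Bijective (f.stalkMap (genericPoint X)) := by
  have h2 : IsIso (Y.presheaf.stalkSpecializes (specializes_of_eq h')) := isIso_stalkSpecializes h'
  have h3 : IsIso (Y.presheaf.stalkSpecializes (specializes_of_eq h') ≫ f.stalkMap (genericPoint X)) := by
    rw [ConcreteCategory.isIso_iff_bijective]
    exact h
  have h4 : IsIso (f.stalkMap (genericPoint X)) := IsIso.of_isIso_comp_left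
    (Y.presheaf.stalkSpecializes (specializes_of_eq h')) _
  exact ConcreteCategory.bijective_of_isIso (f.stalkMap (genericPoint X))

/-- A proper morphism of integral schemes which is bijective on function fields is birational if the target is
normal on a nonempty open. -/
theorem isBir_of_bijective_ff [IsProper f] [IsLocallyNoetherian Y] (O : Y.Opens) (hO : (O : Set Y).Nonempty)
    (hn : Pi1.IsNormalScheme (O : Scheme.{u})) (h' : f (genericPoint X) = genericPoint Y)
    (h : Function.Bijective (FF.ff f h')) : IsBir f := by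
  have hηO : genericPoint Y ∈ O := genericPoint_mem hO
  have hηX : genericPoint X ∈ f ⁻¹ᵁ O := by
    change f (genericPoint X) ∈ O
    rw [h']; exact hηO
  have : Nonempty O := ⟨⟨_, hηO⟩⟩
  have : Nonempty (f ⁻¹ᵁ O) := ⟨⟨_, hηX⟩⟩
  have i1 : IsIntegral (O : Scheme.{u}) := inferInstance
  have i2 : IsIntegral (f ⁻¹ᵁ O : Scheme.{u}) := inferInstance
  have hgX : (f ⁻¹ᵁ O).ι (genericPoint (f ⁻¹ᵁ O : Scheme.{u})) = genericPoint X :=
    genericPoint_eq_of_isOpenImmersion _
  have hgY : O.ι (genericPoint (O : Scheme.{u})) = genericPoint Y :=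
    genericPoint_eq_of_isOpenImmersion _
  have hξ : (f ∣_ O) (genericPoint (f ⁻¹ᵁ O : Scheme.{u})) = genericPoint (O : Scheme.{u}) := by
    apply Subtype.ext
    rw [morphismRestrict_base_coe]
    have e1 : (genericPoint (f ⁻¹ᵁ O : Scheme.{u})).1 = genericPoint X := hgX
    have e2 : (genericPoint (O : Scheme.{u})).1 = genericPoint Y := hgY
    rw [e1, e2, h']
  have hst := bijective_stalkMap_of_ff h' h
  have hst' : Function.Bijective ((f ∣_ O).stalkMap (genericPoint (f ⁻¹ᵁ O : Scheme.{u}))) := by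
    have e := morphismRestrictStalkMap f O (genericPoint (f ⁻¹ᵁ O : Scheme.{u}))
    have e1 : (genericPoint (f ⁻¹ᵁ O : Scheme.{u})).1 = genericPoint X := hgX
    have h4 : IsIso (f.stalkMap (genericPoint (f ⁻¹ᵁ O : Scheme.{u})).1) := by
      rw [e1, ConcreteCategory.isIso_iff_bijective]
      exact hst
    have h5 : IsIso ((f ∣_ O).stalkMap (genericPoint (f ⁻¹ᵁ O : Scheme.{u}))) :=
      ((MorphismProperty.isomorphisms CommRingCat.{u}).arrow_mk_iso_iff e).2 h4
    exact ConcreteCategory.bijective_of_isIso _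
  have : IsLocallyNoetherian (O : Scheme.{u}) := inferInstance
  obtain ⟨V, h1, h2, h3⟩ := K415.ZMT.exists_open (K415.ZMT.intClosedOn_of_normal hn hξ hst')
  have hηV : genericPoint (O : Scheme.{u}) ∈ V := by
    by_contra hV
    have h4 := K415.ZMT.two_le_ringKrullDim hξ hst' V h2 _ hV
    have h5 : ringKrullDim ((O : Scheme.{u}).presheaf.stalk (genericPoint (O : Scheme.{u}))) = 0 :=
      ringKrullDim_eq_zero_of_field (O : Scheme.{u}).functionField
    rw [h5] at h4
    exact absurd h4 (by norm_num)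
  refine ⟨O.ι ''ᵁ V, ⟨_, ⟨_, hηV, rfl⟩⟩, ?_⟩
  exact ((MorphismProperty.isomorphisms Scheme.{u}).arrow_mk_iso_iff (morphismRestrictRestrict f O V)).1 h1

end FunField

end K588.Bir
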