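import Groth.Agent.Resolve.K84.Iface
import Groth.Agent.CalgB.ProjField
import Groth.Agent.Sga5.AmpleFib

/-!
# H-projective morphisms to the spectrum of a field
-/

set_option autoImplicit false
universe u

open CategoryTheory CategoryTheory.Limits AlgebraicGeometry TopologicalSpace

namespace K588.HProj

theorem iff_ample {R : Type u} [CommRing R] {X : Scheme.{u}} (f : X ⟶ Spec (CommRingCat.of R)) :
    RelProj.IsHProjective f ↔ IsProper f ∧ ∃ L : X.Modules, CohB1.IsAmple L := by
  have hS : ∃ N : (Spec (CommRingCat.of R)).Modules, CohB1.IsAmple N :=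
    Groth.Agent.CalgB.ProjField.exists_isAmple_of_isAffine _
  exact Groth.Agent.CalgB.ProjImm.closedImmersion_iff hS f

theorem isProper {R : Type u} [CommRing R] {X : Scheme.{u}} {f : X ⟶ Spec (CommRingCat.of R)}
    (h : RelProj.IsHProjective f) : IsProper f := ((iff_ample f).1 h).1

/-- A finite scheme over an H-projective one is H-projective. -/
theorem comp_finite {R : Type u} [CommRing R] {X X₁ : Scheme.{u}} {f : X ⟶ Spec (CommRingCat.of R)}
    (h : RelProj.IsHProjective f) (g : X₁ ⟶ X) [IsFinite g] : RelProj.IsHProjective (g ≫ f) := by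
  obtain ⟨h1, L, hL⟩ := (iff_ample f).1 h
  exact (iff_ample _).2 ⟨inferInstance, _, Groth.Agent.Sga5.AmpleFib.isAmple_pullback g hL⟩

end K588.HProj
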