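import Groth.Agent.Resolve.K588.Bir
import Groth.Agent.Vanish.K660.Gen
import Groth.Agent.Vanish.K660.Constr

/-!
# The normal finite cover obtained by base change along a birational morphism

`exists_birCover`: `q : X ⟶ B` finite surjective, étale over `W`; `t : Z ⟶ B` proper birational with `Z` smooth over a
field, `V ⊆ t⁻¹ W` open with affine inclusion; `X` normal on a nonempty open. Then there are `Y` normal integral,
`g : Y ⟶ Z` finite surjective, étale over `V`, and `h : Y ⟶ X` proper birational over `B`.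
-/

set_option autoImplicit false
universe u

open CategoryTheory CategoryTheory.Limits AlgebraicGeometry TopologicalSpace

namespace K588.Bir

open K84.Iface K660

theorem exists_birCover {k : Type u} [Field k] {B X Z : Scheme.{u}} [IsIntegral B] [IsIntegral X]
    [IsIntegral Z] (s : Z ⟶ Spec (CommRingCat.of k)) [Smooth s] (q : X ⟶ B) [IsFinite q] [Surjective q]
    (t : Z ⟶ B) [IsProper t] (hbir : IsBir t) [IsLocallyNoetherian X]
    (O : X.Opens) (hO : (O : Set X).Nonempty) (hn : Pi1.IsNormalScheme (O : Scheme.{u}))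
    (W : B.Opens) [Etale (q ∣_ W)] (V : Z.Opens) [IsAffineHom V.ι] (hV : (V : Set Z).Nonempty)
    (hVW : V ≤ t ⁻¹ᵁ W) :
    ∃ (Y : Scheme.{u}) (g : Y ⟶ Z) (h : Y ⟶ X), g ≫ t = h ≫ q ∧ IsIntegral Y ∧
      Pi1.IsNormalScheme Y ∧ IsFinite g ∧ Surjective g ∧ Etale (g ∣_ V) ∧ IsProper h ∧ IsBir h := by
  have ht : t (genericPoint Z) = genericPoint B := map_genericPoint hbir
  have hq : q (genericPoint X) = genericPoint B := by
    obtain ⟨x, hx⟩ := q.surjective (genericPoint B)
    apply eq_genericPoint_of_specializes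
    rw [← hx]
    exact ((genericPoint_spec X).specializes trivial).map q.continuous
  obtain ⟨Y, g, h, w, hYint, hYn, hgfin, hgs, hget, hgη, hhη, hmono⟩ :=
    Constr.exists_cover s q t W V (genericPoint_mem hV) hVW ht hq
  have hproper : IsProper (h ≫ q) := by
    rw [← w]; infer_instance
  have hhproper : IsProper h := IsProper.of_comp h q
  refine ⟨Y, g, h, w, hYint, hYn, hgfin, hgs, hget, hhproper, ?_⟩
  refine isBir_of_bijective_ff O hO hn hhη ⟨(FF.ff h hhη).injective, ?_⟩
  have key := Gen.gen t q g h w hgη hhη hmono (FF.ff h hhη).fieldRange ?_ (fun a => ⟨a, rfl⟩)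
  · intro y
    have : y ∈ (FF.ff h hhη).fieldRange := by rw [key]; trivial
    exact this
  · intro a
    obtain ⟨c, rfl⟩ := (bijective_ff hbir ht).2 a
    refine ⟨FF.ff q hq c, ?_⟩
    have e1 : (g ≫ t) (genericPoint Y) = genericPoint B := by
      rw [Scheme.Hom.comp_apply, hgη, ht]
    have e2 : (h ≫ q) (genericPoint Y) = genericPoint B := by
      rw [Scheme.Hom.comp_apply, hhη, hq]
    have h1 := FF.ff_comp g t hgη ht e1 c
    have h2 := FF.ff_comp h q hhη hq e2 c
    rw [← h1, ← h2, FF.ff_congr w e1 e2]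

end K588.Bir
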