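import Groth.Agent.Resolve.K588.StepAux
import Groth.Agent.Resolve.K588.BirCover
import Groth.Agent.Vanish.K660.Ram
import Groth.Agent.Sga4B.SmoothNormal
import Groth.Agent.S9693

/-!
# The inductive step of the resolution project: `W n` and the nodes A, B, C, D imply `W (n + 1)`
-/

set_option autoImplicit false
universe u

open CategoryTheory CategoryTheory.Limits AlgebraicGeometry TopologicalSpace

namespace K588.Step

open K84.Iface K588.StepAux

theorem isProper_of_isHProjective {X Y : Scheme.{u}} {f : X ⟶ Y} (h : RelProj.IsHProjective f) : IsProper f := by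
  obtain ⟨n, i, hi, rfl⟩ := h
  infer_instance

/-- A finite union of proper closed subsets of an irreducible space is a proper closed subset. -/
theorem iUnion_ne_univ {X : Type*} [TopologicalSpace X] [IrreducibleSpace X] {ι : Type*} [Finite ι]
    (Z : ι → Set X) (hc : ∀ i, IsClosed (Z i)) (hne : ∀ i, Z i ≠ Set.univ) : (⋃ i, Z i) ≠ Set.univ := by
  classical
  have := Fintype.ofFinite ι
  intro h
  have h1 : IsIrreducible (Set.univ : Set X) := IrreducibleSpace.isIrreducible_univ X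
  have h2 : (Set.univ : Set X) ⊆ ⋃₀ ((Finset.univ.image Z : Finset (Set X)) : Set (Set X)) := by
    intro x _
    have : x ∈ ⋃ i, Z i := by rw [h]; trivial
    obtain ⟨i, hi⟩ := Set.mem_iUnion.1 this
    exact Set.mem_sUnion.2 ⟨Z i, by simp, hi⟩
  obtain ⟨z, hz, hz'⟩ := isIrreducible_iff_sUnion_isClosed.1 h1 (Finset.univ.image Z) (by simpa using hc) h2
  obtain ⟨i, -, rfl⟩ := Finset.mem_image.1 hz
  exact hne i (Set.univ_subset_iff.1 hz')

theorem main (K : Type u) [Field K] (n : ℕ) (hW : W K n) (hA : NodeA K n) (hB : NodeB K) (hC : NodeC K)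
    (hD : NodeD K) : W K (n + 1) := by
  intro X p hXint hXproj hdim Z hZ hZ'
  obtain ⟨Y, P, X₁, y, q, N, s, φ, g, U, hYint, hYdim, hYproj, hPint, hqsm, hqproj, hs, hsinj, hX₁int,
    hX₁norm, hX₁proj, hφbir, hw, hgfin, hgsurj, hU, hget, hZX₁⟩ := hA X p hXint hXproj hdim Z hZ hZ'
  have hyprop : IsProper y := isProper_of_isHProjective hYproj
  have hqprop : IsProper q := isProper_of_isHProjective hqproj
  -- the discriminant
  let J : Type := {ij : Fin N × Fin N // ij.1 ≠ ij.2}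
  let ZY : Set Y := ⋃ ij : J, (s ij.1.1) ⁻¹' (Set.range (s ij.1.2))
  have hZY : IsClosed ZY := isClosed_iUnion_of_finite fun ij => isClosed_preimage_range q (hs _)
  have hZY' : ZY ≠ Set.univ := iUnion_ne_univ _ (fun ij => isClosed_preimage_range q (hs _))
    (fun ij => preimage_range_ne_univ q (hs _) (hs _) fun h => ij.2 (hsinj h))
  obtain ⟨Y', ψ, r, D, hY'int, hY'proj, hψbir, hY'sm, hDncd, hZY''⟩ := hW Y y hYint hYproj hYdim ZY hZY hZY'
  -- the pulled back family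
  let P' : Scheme.{u} := pullback q ψ
  let pr : P' ⟶ P := pullback.fst q ψ
  let q' : P' ⟶ Y' := pullback.snd q ψ
  have hpb : IsPullback pr q' q ψ := IsPullback.of_hasPullback q ψ
  have hq'sm : SmoothOfRelativeDimension 1 q' := by
    have := smoothOfRelativeDimension_isStableUnderBaseChange 1
    exact MorphismProperty.of_isPullback (P := @SmoothOfRelativeDimension 1) hpb hqsm
  have hqsm' : Smooth q := SmoothOfRelativeDimension.smooth 1 q
  have hq'sm' : Smooth q' := SmoothOfRelativeDimension.smooth 1 q'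
  have hq'proj : RelProj.IsHProjective q' := Groth.Agent.S9693.result q hqproj ψ
  let s' : Fin N → (Y' ⟶ P') := fun j => pullback.lift (ψ ≫ s j) (𝟙 Y') (by
    rw [Category.assoc, hs, Category.comp_id, Category.id_comp])
  have hs'1 : ∀ j, s' j ≫ pr = ψ ≫ s j := fun j => pullback.lift_fst _ _ _
  have hs'2 : ∀ j, s' j ≫ q' = 𝟙 Y' := fun j => pullback.lift_snd _ _ _
  have hP'sm : Smooth (q' ≫ ψ ≫ y) := inferInstance
  have hP'norm : Pi1.IsNormalScheme P' := Groth.Agent.Sga4B.SmoothNormal.isNormalScheme_of_smooth (q' ≫ ψ ≫ y)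
  have hP'red : IsReduced P' := by
    have : ∀ x : P', _root_.IsReduced (P'.presheaf.stalk x) := fun x => by
      have := (hP'norm x).1
      infer_instance
    exact isReduced_of_isReduced_stalk P'
  -- `P'` is integral and birational to `P`
  obtain ⟨V₀, hV₀ne, hV₀⟩ := id hψbir
  have hqV₀ : ((q ⁻¹ᵁ V₀ : P.Opens) : Set P).Nonempty := by
    have h1 : (Set.range q ∩ (V₀ : Set Y)).Nonempty :=
      nonempty_preirreducible_inter q.isOpenMap.isOpen_range V₀.2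
        ⟨_, ⟨genericPoint P, rfl⟩⟩ hV₀ne
    obtain ⟨_, ⟨x, rfl⟩, hx⟩ := h1
    exact ⟨x, hx⟩
  have hprV₀ : IsIso (pr ∣_ (q ⁻¹ᵁ V₀)) := Bir.isIso_restrict_of_isPullback hpb.flip hV₀
  have hprbir : IsBir pr := ⟨_, hqV₀, hprV₀⟩
  have hψV₀ : ((ψ ⁻¹ᵁ V₀ : Y'.Opens) : Set Y').Nonempty := by
    obtain ⟨x, hx⟩ := Bir.exists_of_isIso_restrict ψ hV₀ hV₀ne.some_mem
    exact ⟨x, by change ψ x ∈ V₀; rw [hx]; exact hV₀ne.some_mem⟩
  have hdense : Dense ((pr ⁻¹ᵁ (q ⁻¹ᵁ V₀) : P'.Opens) : Set P') := by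
    have h1 : Dense ((ψ ⁻¹ᵁ V₀ : Y'.Opens) : Set Y') := (ψ ⁻¹ᵁ V₀).2.dense hψV₀
    have h2 := h1.preimage q'.isOpenMap
    have h3 : pr ⁻¹ᵁ (q ⁻¹ᵁ V₀) = q' ⁻¹ᵁ (ψ ⁻¹ᵁ V₀) := by
      rw [← Scheme.Hom.comp_preimage, ← Scheme.Hom.comp_preimage, hpb.w]
    rw [h3]
    exact h2
  have hP'int : IsIntegral P' := isIntegral_of_dense pr (q ⁻¹ᵁ V₀) hqV₀ hprV₀ hdense
  -- separation of the sections
  obtain ⟨P₁, b, r', D', hP₁int, hP₁proj, hbbir, hP₁sm, hD'ncd, hcov⟩ :=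
    hB Y' P' (ψ ≫ y) q' hY'int hP'int hY'proj hY'sm hq'sm hq'proj r D hDncd N s' hs'2 (by
      intro i j hij x hx
      apply hZY''
      obtain ⟨x', hx'⟩ := hx
      have h1 : x' = x := by
        have h2 : q' (s' j x') = q' (s' i x) := by rw [hx']
        have e1 : ∀ j (z : Y'), q' (s' j z) = z := fun j z => by
          rw [← Scheme.Hom.comp_apply, hs'2]
          rfl
        rwa [e1, e1] at h2
      subst h1
      refine Set.mem_iUnion.2 ⟨⟨(i, j), hij⟩, ?_⟩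
      have e2 : ∀ j (z : Y'), pr (s' j z) = s j (ψ z) := fun j z => by
        rw [← Scheme.Hom.comp_apply, hs'1, Scheme.Hom.comp_apply]
      refine ⟨ψ x', ?_⟩
      change s j (ψ x') = s i (ψ x')
      rw [← e2, ← e2, hx'])
  -- the composite `t : P₁ ⟶ P`
  let t : P₁ ⟶ P := b ≫ pr
  have htbir : IsBir t := Bir.isBir_comp b pr hbbir hprbir
  let p₁ : P₁ ⟶ Spec (CommRingCat.of K) := b ≫ q' ≫ ψ ≫ y
  have hp₁ : t ≫ q ≫ y = p₁ := by
    simp only [t, p₁, Category.assoc]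
    rw [reassoc_of% hpb.w]
  have hp₁prop : IsProper p₁ := isProper_of_isHProjective hP₁proj
  have htprop : IsProper t := by
    have : IsProper (t ≫ q ≫ y) := by rw [hp₁]; exact hp₁prop
    exact IsProper.of_comp t (q ≫ y)
  have hX₁prop : IsProper (φ ≫ p) := isProper_of_isHProjective hX₁proj
  have hX₁noeth : IsLocallyNoetherian X₁ := LocallyOfFiniteType.isLocallyNoetherian (φ ≫ p)
  have hD'eff : ∀ i, BlowUp.IsEffCartierIdeal (D' i) := K911.Ncd.isEff_of_isNCD hD'ncd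
  obtain ⟨V, hVaff, hV⟩ := K660.Ram.exists_compl _ hD'eff
  have hVsupp : (V : Set P₁) = (supp D')ᶜ := by
    ext x
    rw [Set.mem_compl_iff, supp, Set.mem_iUnion, not_exists]
    exact hV x
  have hVne : (V : Set P₁).Nonempty :=
    ⟨genericPoint P₁, (hV _).2 fun i => K660.Ram.genericPoint_notMem_support (hD'eff i)⟩
  have himg : ∀ x : P', pr x ∈ img s → x ∈ img s' := by
    intro x hx
    obtain ⟨j, hj⟩ := Set.mem_iUnion.1 hx
    exact Set.mem_iUnion.2 ⟨j, mem_range_section hpb (hs j) (hs'2 j) (hs'1 j) hj⟩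
  have hVU : V ≤ t ⁻¹ᵁ U := by
    intro x hx
    change t x ∈ (U : Set P)
    rw [hU]
    intro h
    have h1 : b x ∈ img s' := himg _ (by
      have : t x = pr (b x) := Scheme.Hom.comp_apply b pr x
      rwa [this] at h)
    have h2 : x ∈ supp D' := hcov (Or.inl h1)
    have h3 : x ∈ (supp D')ᶜ := by rw [← hVsupp]; exact hx
    exact h3 h2
  obtain ⟨X₂, g₂, h, hg₂w, hX₂int, hX₂norm, hg₂fin, hg₂surj, hg₂et, hhprop, hhbir⟩ :=
    Bir.exists_birCover p₁ g t htbir (⊤ : X₁.Opens) ⟨genericPoint X₁, trivial⟩ (isNormal_opens hX₁norm ⊤)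
      U V hVne hVU
  have hKT := hC P₁ X₂ p₁ g₂ hP₁int hX₂int hX₂norm hP₁sm inferInstance inferInstance hg₂fin hg₂surj r' D'
    hD'ncd V hVsupp hg₂et
  have hX₂proj : RelProj.IsHProjective (g₂ ≫ p₁) := HProj.comp_finite hP₁proj g₂
  obtain ⟨X₃, φ₃, r₃, D₃, hX₃int, hX₃proj, hφ₃bir, hX₃sm, hD₃ncd, hD₃⟩ :=
    hD X₂ (g₂ ≫ p₁) hX₂int hX₂proj r' (fun i => (D' i).comap g₂) hKT
  have hcomp : (φ₃ ≫ h ≫ φ) ≫ p = φ₃ ≫ g₂ ≫ p₁ := by
    rw [← hp₁, reassoc_of% hg₂w, hw]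
    simp only [Category.assoc]
  refine ⟨X₃, φ₃ ≫ h ≫ φ, r₃, D₃, hX₃int, ?_, ?_, ?_, ?_, ?_⟩
  · rw [hcomp]; exact hX₃proj
  · exact Bir.isBir_comp _ _ hφ₃bir (Bir.isBir_comp _ _ hhbir hφbir)
  · rw [hcomp]; exact hX₃sm
  · rw [hcomp]; exact hD₃ncd
  · intro x hx
    rw [← hD₃]
    have h1 : φ (h (φ₃ x)) ∈ Z := by
      have : (φ₃ ≫ h ≫ φ) x = φ (h (φ₃ x)) := by
        rw [Scheme.Hom.comp_apply, Scheme.Hom.comp_apply]
      rw [← this]; exact hx
    have h2 : g (h (φ₃ x)) ∈ img s := hZX₁ h1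
    have h3 : t (g₂ (φ₃ x)) = g (h (φ₃ x)) := by
      have e1 : (g₂ ≫ t) (φ₃ x) = (h ≫ g) (φ₃ x) := by rw [hg₂w]
      rwa [Scheme.Hom.comp_apply, Scheme.Hom.comp_apply] at e1
    have h4 : pr (b (g₂ (φ₃ x))) ∈ img s := by
      have : t (g₂ (φ₃ x)) = pr (b (g₂ (φ₃ x))) := Scheme.Hom.comp_apply b pr _
      rw [← this, h3]; exact h2
    have h5 : g₂ (φ₃ x) ∈ supp D' := hcov (Or.inl (himg _ h4))
    obtain ⟨i, hi⟩ := Set.mem_iUnion.1 h5
    exact Set.mem_iUnion.2 ⟨i, (K911.Ncd.mem_support_comap (D' i) g₂ _).2 hi⟩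

end K588.Step
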