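import Groth.Agent.Resolve.K588.Base
import Groth.Agent.Resolve.K588.Step

/-!
# Assembly of the resolution project: the nodes A, B, C, D imply `W n` for all `n`
-/

set_option autoImplicit false
universe u

namespace K588.Main

open K84.Iface

theorem main (K : Type u) [Field K] [CharZero K] (hA : ∀ n, NodeA K n) (hB : NodeB K) (hC : NodeC K)
    (hD : NodeD K) (n : ℕ) : W K n := by
  induction n with
  | zero => exact Base.main K
  | succ n ih => exact Step.main K n ih (hA n) hB hC hD

end K588.Main
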