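import Groth.Agent.Resolve.K124.NodeAThm
import Groth.Agent.Resolve.K588.Main
import Groth.Agent.Resolve.K84.NodeDMain
import Groth.Agent.Resolve.K891.NodeC
import Groth.Agent.Resolve.K913.Part2
import Groth.Agent.Resolve.K937.PartI

/-!
# `W n` for all `n` from Node B (the nodes A, C, D are theorems)
-/

set_option autoImplicit false
universe u

namespace K588.WThm

open K84.Iface

theorem nodeC (K : Type u) [Field K] [CharZero K] : NodeC K :=
  K891.NodeC.main K (K937.PartI.main K) (K913.Part2.main K)

theorem wThm (K : Type u) [Field K] [CharZero K] (hB : NodeB K) (n : ℕ) : W K n :=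
  Main.main K (fun n => K124.NodeAThm.nodeA n) hB (nodeC K) (K84.NodeDMain.main K) n

end K588.WThm
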