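import Groth.Agent.Resolve.K588.Bir
import Groth.Agent.Resolve.K588.HProj
import Groth.Agent.An.H526.T3Scheme
import Mathlib.AlgebraicGeometry.Artinian

/-!
# Dimension zero: `W K 0` for a field of characteristic zero
-/

set_option autoImplicit false
universe u

open CategoryTheory CategoryTheory.Limits AlgebraicGeometry TopologicalSpace

namespace K588.Base

open K84.Iface

theorem subsingleton_of_dim {X : Scheme.{u}} [IsIntegral X] [IsLocallyNoetherian X]
    (h : topologicalKrullDim X ≤ 0) : Subsingleton X := by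
  have h1 : IsLocallyArtinian X := IsLocallyArtinian.of_topologicalKrullDim_le_zero h
  have h2 : DiscreteTopology X := inferInstance
  refine ⟨fun x y => ?_⟩
  by_contra hne
  have h3 : (({x} : Set X) ∩ {y}).Nonempty :=
    nonempty_preirreducible_inter (isOpen_discrete _) (isOpen_discrete _) ⟨x, rfl⟩ ⟨y, rfl⟩
  obtain ⟨z, hz1, hz2⟩ := h3
  exact hne (hz1.symm.trans hz2)

theorem main (K : Type u) [Field K] [CharZero K] : W K 0 := by
  intro X p hXint hXproj hdim Z hZ hZ'
  have hprop : IsProper p := HProj.isProper hXproj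
  have hnoe : IsLocallyNoetherian X := LocallyOfFiniteType.isLocallyNoetherian p
  have hsub : Subsingleton X := subsingleton_of_dim (by rw [hdim]; simp)
  have hfin : IsFinite p := isFinite_iff_locallyOfFiniteType_of_jacobsonSpace.2 inferInstance
  obtain ⟨Z0, -, hne, het⟩ := Groth.Agent.An.H526.T3.exists_open_etale (𝟙 (Spec (CommRingCat.of K))) p
  have hsubK : Subsingleton (Spec (CommRingCat.of K)) :=
    inferInstanceAs (Subsingleton (PrimeSpectrum K))
  have hZ0 : Z0 = ⊤ := by
    ext y
    obtain ⟨z, hz⟩ := hne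
    have : y = z := Subsingleton.elim _ _
    simp [this, hz]
  have hetp : Etale p := by
    have h1 := het ⊤ (by rw [hZ0])
    have : IsZariskiLocalAtTarget (@Etale.{u}) :=
      HasRingHomProperty.instIsZariskiLocalAtTarget (P := @Etale.{u}) (Q := RingHom.Etale)
    rw [IsZariskiLocalAtTarget.iff_of_iSup_eq_top (P := @Etale) (fun _ : Unit => (⊤ : (Spec (CommRingCat.of K)).Opens))
      (by simp)]
    exact fun _ => h1
  have hZe : Z = ∅ := by
    by_contra hne
    apply hZ'
    obtain ⟨z, hz⟩ := Set.nonempty_iff_ne_empty.2 hne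
    ext y
    have : y = z := Subsingleton.elim _ _
    simp [this, hz]
  refine ⟨X, 𝟙 X, 0, Fin.elim0, hXint, ?_, Bir.isBir_id X, ?_, ?_, ?_⟩
  · rw [Category.id_comp]; exact hXproj
  · rw [Category.id_comp]; infer_instance
  · rintro x ⟨⟨i, -⟩⟩
    exact i.elim0
  · rw [hZe]
    simp

end K588.Base
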