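import Groth.Agent.Resolve.K588.Bir
import Groth.Agent.Resolve.K588.HProj
import Groth.Prelude.Def_Pi1
import Mathlib.AlgebraicGeometry.PullbackCarrier
import Mathlib.AlgebraicGeometry.Morphisms.UnderlyingMap
import Mathlib.AlgebraicGeometry.Morphisms.Smooth
import Mathlib.AlgebraicGeometry.Morphisms.Flat
import Mathlib.AlgebraicGeometry.Morphisms.UniversallyOpen

/-!
# Auxiliary lemmas for the inductive step of the resolution project
-/

set_option autoImplicit false
universe u

open CategoryTheory CategoryTheory.Limits AlgebraicGeometry TopologicalSpace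

namespace K588.StepAux

open K84.Iface

/-- An open subscheme of a normal scheme is normal. -/
theorem isNormal_opens {X : Scheme.{u}} (hX : Pi1.IsNormalScheme X) (U : X.Opens) :
    Pi1.IsNormalScheme (U : Scheme.{u}) := by
  intro x
  have h1 : IsIso (U.ι.stalkMap x) := inferInstance
  let e : X.presheaf.stalk (U.ι x) ≃+* (U : Scheme.{u}).presheaf.stalk x :=
    (asIso (U.ι.stalkMap x)).commRingCatIsoToRingEquiv
  obtain ⟨h2, h3⟩ := hX (U.ι x)
  exact ⟨MulEquiv.isDomain _ e.symm.toMulEquiv, IsIntegrallyClosed.of_equiv e⟩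

section Sections

variable {Y P : Scheme.{u}} [IsIntegral Y] (q : P ⟶ Y) [IsSeparated q]

omit [IsIntegral Y] in
theorem isClosedImmersion_section {s : Y ⟶ P} (hs : s ≫ q = 𝟙 Y) : IsClosedImmersion s := by
  have h1 : IsClosedImmersion (s ≫ q) := by
    rw [hs]; infer_instance
  exact IsClosedImmersion.of_comp s q

/-- Two distinct sections coincide only over a proper closed subset. -/
theorem preimage_range_ne_univ {s t : Y ⟶ P} (hs : s ≫ q = 𝟙 Y) (ht : t ≫ q = 𝟙 Y) (hne : s ≠ t) :
    s ⁻¹' (Set.range t) ≠ Set.univ := by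
  intro h
  apply hne
  have : IsClosedImmersion t := isClosedImmersion_section q ht
  have h1 := IsPullback.of_hasPullback s t
  have h2 : IsClosedImmersion (pullback.fst s t) := inferInstance
  have h3 : Surjective (pullback.fst s t) := by
    refine ⟨fun y => ?_⟩
    have hy : y ∈ s ⁻¹' (Set.range t) := by rw [h]; trivial
    obtain ⟨y', hy'⟩ := hy
    obtain ⟨z, hz, -⟩ := Scheme.Pullback.exists_preimage_pullback y y' hy'.symm
    exact ⟨z, hz⟩
  have h4 : IsIso (pullback.fst s t) := isIso_of_isClosedImmersion_of_surjective _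
  let a : Y ⟶ Y := inv (pullback.fst s t) ≫ pullback.snd s t
  have ha : a ≫ t = s := by
    simp only [a, Category.assoc]
    rw [← pullback.condition, IsIso.inv_hom_id_assoc]
  have ha' : a = 𝟙 Y := by
    have : a ≫ t ≫ q = 𝟙 Y := by rw [← Category.assoc, ha, hs]
    rwa [ht, Category.comp_id] at this
  rw [← ha, ha', Category.id_comp]

omit [IsIntegral Y] in
theorem isClosed_preimage_range {s t : Y ⟶ P} (ht : t ≫ q = 𝟙 Y) : IsClosed (s ⁻¹' (Set.range t)) := by
  have : IsClosedImmersion t := isClosedImmersion_section q ht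
  exact (t.isClosedEmbedding.isClosed_range).preimage s.continuous

end Sections

section BC

variable {Y P Y' P' : Scheme.{u}} {pr : P' ⟶ P} {q' : P' ⟶ Y'} {q : P ⟶ Y} {ψ : Y' ⟶ Y}

/-- The pulled back section. -/
theorem isPullback_section (h : IsPullback pr q' q ψ) {s : Y ⟶ P} (hs : s ≫ q = 𝟙 Y) {s' : Y' ⟶ P'}
    (hs' : s' ≫ q' = 𝟙 Y') (hss : s' ≫ pr = ψ ≫ s) : IsPullback ψ s' s pr := by
  refine IsPullback.of_bot (h₂₁ := pr) (v₂₁ := q') (v₂₂ := q) (h₃₁ := ψ) ?_ hss.symm h
  rw [hs, hs']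
  exact IsPullback.of_vert_isIso ⟨by simp⟩

theorem mem_range_section (h : IsPullback pr q' q ψ) {s : Y ⟶ P} (hs : s ≫ q = 𝟙 Y) {s' : Y' ⟶ P'}
    (hs' : s' ≫ q' = 𝟙 Y') (hss : s' ≫ pr = ψ ≫ s) {x : P'} (hx : pr x ∈ Set.range s) :
    x ∈ Set.range s' := by
  obtain ⟨y, hy⟩ := hx
  obtain ⟨y', -, hy'⟩ := Scheme.exists_preimage_of_isPullback (isPullback_section h hs hs' hss) y x hy
  exact ⟨y', hy'⟩

end BC

/-- A reduced scheme with a dense open mapping isomorphically to an open of an integral scheme is integral. -/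
theorem isIntegral_of_dense {P' P : Scheme.{u}} [IsIntegral P] (π : P' ⟶ P) (W : P.Opens)
    (hW : (W : Set P).Nonempty) (h : IsIso (π ∣_ W)) [IsReduced P']
    (hd : Dense ((π ⁻¹ᵁ W : P'.Opens) : Set P')) : IsIntegral P' := by
  have hne : Nonempty W := ⟨⟨_, hW.some_mem⟩⟩
  have hne' : Nonempty (π ⁻¹ᵁ W) := by
    obtain ⟨x, hx⟩ := Bir.exists_of_isIso_restrict π h hW.some_mem
    exact ⟨⟨x, by change π x ∈ W; rw [hx]; exact hW.some_mem⟩⟩
  have i1 : IsIntegral (W : Scheme.{u}) := inferInstance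
  have i2 : IsIntegral ((π ⁻¹ᵁ W : P'.Opens) : Scheme.{u}) := isIntegral_of_isOpenImmersion (π ∣_ W)
  have h1 : IsIrreducible (Set.range (π ⁻¹ᵁ W).ι) := by
    rw [← Set.image_univ]
    exact (IrreducibleSpace.isIrreducible_univ _).image _ (π ⁻¹ᵁ W).ι.continuous.continuousOn
  rw [Scheme.Opens.range_ι] at h1
  have h2 : IsIrreducible (Set.univ : Set P') := by
    rw [← hd.closure_eq]
    exact h1.closure
  have h3 : IrreducibleSpace P' := by
    rw [irreducibleSpace_def]
    exact h2
  exact isIntegral_of_irreducibleSpace_of_isReduced P'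

end K588.StepAux
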