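import Groth.Agent.Resolve.K588.WThm
import Groth.Agent.Resolve.K284.NodeB

/-!
# `W n` for all `n`: embedded resolution data for projective varieties in characteristic zero
-/

set_option autoImplicit false
universe u

namespace K588.WFinal

open K84.Iface

theorem w (K : Type u) [Field K] [CharZero K] (n : ℕ) : W K n :=
  WThm.wThm K (K284.NodeB.nodeB K) n

end K588.WFinal
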